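import Groth.Agent.Lib.LocQCoh25.Basic
import Groth.Agent.HZshLC25.Basic
import Groth.Agent.Lib.RDerLES.CompAcyclic
import Groth.Agent.Lib.LocZ.Sheaf

/-! # Sections with supports in a locally closed subset of a module -/

set_option autoImplicit false
set_option backward.isDefEq.respectTransparency false
set_option maxHeartbeats 1000000
universe u

open CategoryTheory CategoryTheory.Limits AlgebraicGeometry Opposite TopologicalSpace

namespace GrothLib.LocQCoh25

section

variable {U Y : Scheme.{u}} (j : U ⟶ Y) [IsOpenImmersion j]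

/-- The unit is an epimorphism on modules with surjective restriction maps. -/
theorem epi_restrict_unit_of_surjective (N : Y.Modules)
    (hN : ∀ {A B : Y.Opens} (h : B ≤ A), Function.Surjective (N.presheaf.map (homOfLE h).op)) :
    Epi ((Scheme.Modules.restrictAdjunction j).unit.app N) := by
  have : Epi ((Scheme.Modules.toPresheaf Y).map ((Scheme.Modules.restrictAdjunction j).unit.app N)) := by
    have : ∀ V, Epi (((Scheme.Modules.toPresheaf Y).map
        ((Scheme.Modules.restrictAdjunction j).unit.app N)).app V) := fun V =>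
      (AddCommGrpCat.epi_iff_surjective _).2 (hN (Scheme.Hom.image_preimage_le j V.unop))
    exact NatTrans.epi_of_epi_app _
  exact (Scheme.Modules.toPresheaf Y).epi_of_epi_map this

theorem suppSES_shortExact' (K : CochainComplex Y.Modules ℕ)
    (hK : ∀ n {A B : Y.Opens} (h : B ≤ A), Function.Surjective ((K.X n).presheaf.map (homOfLE h).op)) :
    (suppSES j K).ShortExact := by
  refine HomologicalComplex.shortExact_of_degreewise_shortExact _ fun n => ?_
  exact ShortComplex.ShortExact.mk'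
    (ShortComplex.exact_of_f_is_kernel (ShortComplex.mk _ _ (kernel.condition
      ((Scheme.Modules.restrictAdjunction j).unit.app (K.X n)))) (kernelIsKernel _))
    (inferInstanceAs (Mono (kernel.ι _))) (epi_restrict_unit_of_surjective j (K.X n) (hK n))

theorem gammaι_vanish (N : Y.Modules) (A : Y.Opens) (t : Γ((DCoh.gammaZ j).obj N, A)) :
    N.presheaf.map (homOfLE (Scheme.Hom.image_preimage_le j A)).op (((gammaι j).app N).app A t) = 0 :=
  ConcreteCategory.congr_hom (congrArg (fun k => Scheme.Modules.Hom.app k A)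
    (kernel.condition ((Scheme.Modules.restrictAdjunction j).unit.app N))) t

theorem P_map (N : Y.Modules) {A B : Y.Opens} (g : B ⟶ A) :
    ((P j).obj N).presheaf.map g.op =
      N.presheaf.map (homOfLE (Scheme.Hom.image_mono j (j.preimage_mono g.le))).op := rfl

/-- Evaluation at an open. -/
noncomputable abbrev evalFun (A : Y.Opens) : Y.Modules ⥤ AddCommGrpCat.{u} :=
  QCoh.toAbFun Y ⋙ sheafToPresheaf _ AddCommGrpCat.{u} ⋙ (evaluation _ _).obj (op A)

theorem gammaι_injective (N : Y.Modules) (A : Y.Opens) :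
    Function.Injective (((gammaι j).app N).app A) := by
  have : Mono (((sheafToPresheaf (Opens.grothendieckTopology Y) AddCommGrpCat.{u}).map
      ((QCoh.toAbFun Y).map (kernel.ι ((Scheme.Modules.restrictAdjunction j).unit.app N)))).app (op A)) :=
    inferInstance
  exact (AddCommGrpCat.mono_iff_injective _).1 this

theorem exists_gammaι (N : Y.Modules) (A : Y.Opens) (s : Γ(N, A))
    (hs : N.presheaf.map (homOfLE (Scheme.Hom.image_preimage_le j A)).op s = 0) :
    ∃ t, ((gammaι j).app N).app A t = s := by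
  let S := ShortComplex.mk _ _ (kernel.condition ((Scheme.Modules.restrictAdjunction j).unit.app N))
  have hS : S.Exact := S.exact_of_f_is_kernel (kernelIsKernel _)
  have hT := hS.map_of_mono_of_preservesKernel (QCoh.toAbFun Y) inferInstance inferInstance
  have : Mono (S.map (QCoh.toAbFun Y)).f :=
    inferInstanceAs (Mono ((QCoh.toAbFun Y).map (kernel.ι _)))
  have h2 := hT.map_of_mono_of_preservesKernel
    (sheafToPresheaf (Opens.grothendieckTopology Y) AddCommGrpCat.{u} ⋙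
      (evaluation _ _).obj (op A)) inferInstance inferInstance
  exact (ShortComplex.ab_exact_iff _).1 h2 s hs

end

variable {Y : Scheme.{u}} {V₂ V₁ : Y.Opens} (h : V₂ ≤ V₁)

theorem image_preimage_ι (V A : Y.Opens) : V.ι ''ᵁ (V.ι ⁻¹ᵁ A) = V ⊓ A := by
  simp [Scheme.Hom.image_preimage_eq_opensRange_inf]

theorem rs_zero_iff (P : TopCat.Presheaf AddCommGrpCat.{u} Y) {B B' C C' : Y.Opens} (eB : B' = B)
    (eC : C' = C) (hC : C ≤ B) (hC' : C' ≤ B') (s : P.obj (op B)) :
    P.map (homOfLE hC).op s = 0 ↔ P.map (homOfLE hC').op (P.map (eqToHom eB).op s) = 0 := by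
  subst eB eC
  simp

variable (V₁ V₂) in
/-- `M ↦ Γ_{V₁ ∖ V₂}(M)`, on modules. -/
noncomputable abbrev lcFun : Y.Modules ⥤ Y.Modules := P V₁.ι ⋙ DCoh.gammaZ V₂.ι

variable (V₁ V₂) in
/-- Sections with supports as sections over `V₁ ⊓ A`. -/
noncomputable def σ (M : Y.Modules) (A : Y.Opens) :
    Γ((DCoh.gammaZ V₂.ι).obj ((P V₁.ι).obj M), A) ⟶ M.presheaf.obj (op (V₁ ⊓ A)) :=
  ((gammaι V₂.ι).app ((P V₁.ι).obj M)).app A ≫ M.presheaf.map (eqToHom (image_preimage_ι V₁ A).symm).op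

theorem σ_injective (M : Y.Modules) (A : Y.Opens) : Function.Injective (σ V₂ V₁ M A) :=
  ((ConcreteCategory.isIso_iff_bijective
      (M.presheaf.map (eqToHom (image_preimage_ι V₁ A).symm).op)).1 inferInstance).1.comp
    (gammaι_injective V₂.ι ((P V₁.ι).obj M) A)

include h in
theorem image_preimage_two (A : Y.Opens) : V₂ ⊓ A = V₁.ι ''ᵁ (V₁.ι ⁻¹ᵁ (V₂.ι ''ᵁ (V₂.ι ⁻¹ᵁ A))) := by
  rw [image_preimage_ι, image_preimage_ι, ← inf_assoc, inf_eq_right.2 h]

theorem le_two (A : Y.Opens) : V₁.ι ''ᵁ (V₁.ι ⁻¹ᵁ (V₂.ι ''ᵁ (V₂.ι ⁻¹ᵁ A))) ≤ V₁.ι ''ᵁ (V₁.ι ⁻¹ᵁ A) :=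
  Scheme.Hom.image_mono V₁.ι (V₁.ι.preimage_mono (Scheme.Hom.image_preimage_le V₂.ι A))

variable (V₁ V₂) in
/-- The underlying section. -/
noncomputable def gv (M : Y.Modules) (A : Y.Opens) (t : Γ((DCoh.gammaZ V₂.ι).obj ((P V₁.ι).obj M), A)) :
    M.presheaf.obj (op (V₁.ι ''ᵁ (V₁.ι ⁻¹ᵁ A))) :=
  ((gammaι V₂.ι).app ((P V₁.ι).obj M)).app A t

theorem σ_eq (M : Y.Modules) (A : Y.Opens) (t) :
    σ V₂ V₁ M A t = M.presheaf.map (eqToHom (image_preimage_ι V₁ A).symm).op (gv V₂ V₁ M A t) := rfl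

theorem gv_vanish (M : Y.Modules) (A : Y.Opens) (t) :
    M.presheaf.map (homOfLE (le_two (V₂ := V₂) A)).op (gv V₂ V₁ M A t) = 0 := by
  have h0 := gammaι_vanish V₂.ι ((P V₁.ι).obj M) A t
  rw [P_map] at h0
  exact h0

theorem exists_gv (M : Y.Modules) (A : Y.Opens) (s : M.presheaf.obj (op (V₁.ι ''ᵁ (V₁.ι ⁻¹ᵁ A))))
    (hs : M.presheaf.map (homOfLE (le_two (V₂ := V₂) A : V₁.ι ''ᵁ (V₁.ι ⁻¹ᵁ (V₂.ι ''ᵁ (V₂.ι ⁻¹ᵁ A))) ≤ _)).op s = 0) :
    ∃ t, gv V₂ V₁ M A t = s := by
  refine exists_gammaι V₂.ι ((P V₁.ι).obj M) A s ?_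
  rw [P_map]
  exact hs

theorem σ_mem (M : Y.Modules) (A : Y.Opens) (t) :
    σ V₂ V₁ M A t ∈ LocCohZ.sectZ (X := Y.carrier) (Coh.toAb M) (inf_le_inf_right A h : V₂ ⊓ A ≤ V₁ ⊓ A) := by
  refine AddMonoidHom.mem_ker.2 ?_
  rw [σ_eq]
  exact (rs_zero_iff M.presheaf (image_preimage_ι V₁ A).symm (image_preimage_two h A)
    (le_two (V₂ := V₂) A) (inf_le_inf_right A h) (gv V₂ V₁ M A t)).1 (gv_vanish M A t)

theorem σ_surjective (M : Y.Modules) (A : Y.Opens) (s : LocCohZ.sectZ (X := Y.carrier) (Coh.toAb M)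
    (inf_le_inf_right A h : V₂ ⊓ A ≤ V₁ ⊓ A)) : ∃ t, σ V₂ V₁ M A t = s.1 := by
  obtain ⟨v, hv⟩ := s
  have hv' : M.presheaf.map (homOfLE (inf_le_inf_right A h)).op v = 0 := hv
  obtain ⟨s₀, rfl⟩ := ((ConcreteCategory.isIso_iff_bijective
      (M.presheaf.map (eqToHom (image_preimage_ι V₁ A).symm).op)).1 inferInstance).2 v
  obtain ⟨t, ht⟩ := exists_gv M A s₀
    ((rs_zero_iff M.presheaf (image_preimage_ι V₁ A).symm (image_preimage_two h A)
      (le_two (V₂ := V₂) A) (inf_le_inf_right A h) s₀).2 hv')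
  exact ⟨t, (σ_eq M A t).trans (congrArg _ ht)⟩

theorem σ_natural_open (M : Y.Modules) {A B : Y.Opens} (g : B ≤ A) (t) :
    σ V₂ V₁ M B (((lcFun V₂ V₁).obj M).presheaf.map (homOfLE g).op t) =
      M.presheaf.map (homOfLE (inf_le_inf_left V₁ g)).op (σ V₂ V₁ M A t) := by
  have e := ConcreteCategory.congr_hom
    ((Scheme.Modules.Hom.mapPresheaf ((gammaι V₂.ι).app ((P V₁.ι).obj M))).naturality (homOfLE g).op) t
  refine (congrArg (M.presheaf.map (eqToHom (image_preimage_ι V₁ B).symm).op) e).trans ?_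
  change (M.presheaf.map _ ≫ M.presheaf.map _) _ = (M.presheaf.map _ ≫ M.presheaf.map _) _
  rw [← M.presheaf.map_comp, ← M.presheaf.map_comp]
  rfl

theorem σ_natural {M M' : Y.Modules} (φ : M ⟶ M') (A : Y.Opens) (t) :
    σ V₂ V₁ M' A (((lcFun V₂ V₁).map φ).app A t) = φ.app (V₁ ⊓ A) (σ V₂ V₁ M A t) := by
  have e := ConcreteCategory.congr_hom (congrArg (fun k => Scheme.Modules.Hom.app k A)
    ((gammaι V₂.ι).naturality ((P V₁.ι).map φ))) t
  refine (congrArg (M'.presheaf.map (eqToHom (image_preimage_ι V₁ A).symm).op) e).trans ?_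
  exact (ConcreteCategory.congr_hom
    ((Scheme.Modules.Hom.mapPresheaf φ).naturality (eqToHom (image_preimage_ι V₁ A).symm).op) _).symm

theorem toSect_bijective (F : CohTop.Ab Y.carrier) (A : Opens Y.carrier) :
    Function.Bijective ((HZshLC25.toSect h F A).hom.codRestrict
      (LocCohZ.sectZ F (inf_le_inf_right A h : V₂ ⊓ A ≤ V₁ ⊓ A)) (HZshLC25.toSect_mem h F A)) := by
  refine ⟨fun _ _ e => HZshLC25.toSect_injective h _ A (congrArg Subtype.val e), fun s => ?_⟩
  obtain ⟨s₀, hs₀⟩ := ((ConcreteCategory.isIso_iff_bijective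
    (F.obj.map (eqToHom (HZshLC25.openFun_preimage_eq (V := V₁) A).symm).op)).1 inferInstance).2 s.1
  obtain ⟨t, ht⟩ := LocZ.exists_lift (SuppFam.inOpen V₁ V₂) (CohTop.restr F V₁) _ s₀
    ((HZshLC25.vanish_iff h F A s₀).2 ((congrArg _ hs₀).trans s.2))
  exact ⟨t, Subtype.ext ((congrArg (F.obj.map
    (eqToHom (HZshLC25.openFun_preimage_eq (V := V₁) A).symm).op) ht).trans hs₀)⟩

/-- The sections agree. -/
noncomputable def cmp (M : Y.Modules) (A : Y.Opens) :
    Γ((DCoh.gammaZ V₂.ι).obj ((P V₁.ι).obj M), A) ≃+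
      ((SuppFam.sectSuppLC (X := Y.carrier) h).obj (Coh.toAb M)).obj.obj (op A) :=
  (AddEquiv.ofBijective ((σ V₂ V₁ M A).hom.codRestrict _ (σ_mem h M A))
    ⟨fun _ _ e => σ_injective M A (congrArg Subtype.val e),
      fun s => (σ_surjective h M A s).imp fun _ e => Subtype.ext e⟩).trans
  (AddEquiv.ofBijective _ (toSect_bijective h (Coh.toAb M) A)).symm

theorem toSect_cmp (M : Y.Modules) (A : Y.Opens) (t) :
    HZshLC25.toSect (X := Y.carrier) h (Coh.toAb M) A (cmp h M A t) = σ V₂ V₁ M A t := by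
  have := congrArg Subtype.val (AddEquiv.apply_symm_apply
    (AddEquiv.ofBijective _ (toSect_bijective h (Coh.toAb M) A))
    (AddEquiv.ofBijective ((σ V₂ V₁ M A).hom.codRestrict _ (σ_mem h M A))
      ⟨fun _ _ e => σ_injective M A (congrArg Subtype.val e),
        fun s => (σ_surjective h M A s).imp fun _ e => Subtype.ext e⟩ t))
  exact this

/-- `Γ_Z` commutes with the underlying sheaf. -/
noncomputable def lcIso : lcFun V₂ V₁ ⋙ QCoh.toAbFun Y ≅
    QCoh.toAbFun Y ⋙ SuppFam.sectSuppLC (X := Y.carrier) h :=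
  NatIso.ofComponents
    (fun M => ObjectProperty.isoMk _ (NatIso.ofComponents (fun A => (cmp h M A.unop).toAddCommGrpIso)
      (fun {A B} g => by
        ext t
        apply HZshLC25.toSect_injective (X := Y.carrier) h (Coh.toAb M) B.unop
        exact (toSect_cmp h M B.unop _).trans ((σ_natural_open M g.unop.le t).trans
          ((congrArg _ (toSect_cmp h M A.unop t).symm).trans
            (HZshLC25.toSect_natural_open (X := Y.carrier) h (Coh.toAb M) g.unop.le _).symm)))))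
    (fun {M M'} φ => by
      ext A t
      apply HZshLC25.toSect_injective (X := Y.carrier) h (Coh.toAb M') A.unop
      exact (toSect_cmp h M' A.unop _).trans ((σ_natural φ A.unop t).trans
        ((congrArg _ (toSect_cmp h M A.unop t).symm).trans
          (HZshLC25.toSect_natural (X := Y.carrier) h ((QCoh.toAbFun Y).map φ) A.unop _).symm)))

include h in
/-- `j₂_* j₂^* j₁_* j₁^* = j₂_* j₂^*`. -/
theorem isIso_P_map_unit (M : Y.Modules) :
    IsIso ((P V₂.ι).map ((Scheme.Modules.restrictAdjunction V₁.ι).unit.app M)) := by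
  rw [Scheme.Modules.Hom.isIso_iff_isIso_app]
  intro A
  have hle : V₂.ι ''ᵁ (V₂.ι ⁻¹ᵁ A) ≤ V₁ := (image_preimage_ι V₂ A).le.trans (inf_le_left.trans h)
  have e : V₁.ι ''ᵁ (V₁.ι ⁻¹ᵁ (V₂.ι ''ᵁ (V₂.ι ⁻¹ᵁ A))) = V₂.ι ''ᵁ (V₂.ι ⁻¹ᵁ A) :=
    (image_preimage_ι V₁ _).trans (inf_eq_right.2 hle)
  have : IsIso (homOfLE (Scheme.Hom.image_preimage_le V₁.ι (V₂.ι ''ᵁ (V₂.ι ⁻¹ᵁ A)))) :=
    ⟨homOfLE e.ge, Subsingleton.elim _ _, Subsingleton.elim _ _⟩
  exact inferInstanceAs (IsIso (M.presheaf.map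
    (homOfLE (Scheme.Hom.image_preimage_le V₁.ι (V₂.ι ''ᵁ (V₂.ι ⁻¹ᵁ A)))).op))

theorem isQuasicoherent_homology_lc [QuasiCompact V₁.ι] [QuasiCompact V₂.ι] {M : Y.Modules}
    [M.IsQuasicoherent] (IR : InjectiveResolution M) (n : ℕ) (hle : V₂ ≤ V₁) :
    ((mapCx (DCoh.gammaZ V₂.ι) (mapCx (P V₁.ι) IR.cocomplex)).homology n).IsQuasicoherent := by
  let K := IR.cocomplex
  refine isQuasicoherent_X₁_homology (suppSES_shortExact' V₂.ι (mapCx (P V₁.ι) K) ?_)
    (isQuasicoherent_homology_P V₁.ι IR) (fun m => ?_) n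
  · intro m A B g
    exact (Cohom.FlRes.ofInjective IR).flasque m (Scheme.Hom.image_mono V₁.ι (V₁.ι.preimage_mono g))
  · let φ : mapCx (P V₂.ι) K ⟶ mapCx (P V₂.ι) (mapCx (P V₁.ι) K) :=
      { f := fun i => (P V₂.ι).map ((Scheme.Modules.restrictAdjunction V₁.ι).unit.app (K.X i))
        comm' := fun a b _ => ((P V₂.ι).map_comp _ _).symm.trans
          ((congrArg _ ((Scheme.Modules.restrictAdjunction V₁.ι).unit.naturality (K.d a b)).symm).trans
            ((P V₂.ι).map_comp _ _)) }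
    have : ∀ i, IsIso (φ.f i) := fun i => isIso_P_map_unit hle (K.X i)
    have hφ : IsIso φ := HomologicalComplex.Hom.isIso_of_components φ
    exact @QCoh.isQuasicoherent_of_iso _ _ _
      ((HomologicalComplex.homologyFunctor _ _ m).mapIso (asIso φ)) (isQuasicoherent_homology_P V₂.ι IR m)

theorem sectSuppLC_preservesFiniteLimits {X : TopCat.{u}} {W V : Opens X} (hW : W ≤ V) :
    PreservesFiniteLimits (SuppFam.sectSuppLC hW) := by
  have : PreservesFiniteLimits (SheafCoh.homPre (HZshLC25.G hW)) := by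
    refine preservesFiniteLimits_of_evaluation _ fun A => ?_
    exact inferInstanceAs (PreservesFiniteLimits (preadditiveCoyoneda.obj (op ((HZshLC25.G hW).obj A.unop))))
  have : PreservesFiniteLimits
      (SuppFam.sectSuppLC hW ⋙ sheafToPresheaf (Opens.grothendieckTopology X) AddCommGrpCat.{u}) :=
    preservesFiniteLimits_of_natIso (HZshLC25.sectIso hW).symm
  exact preservesFiniteLimits_of_reflects_of_preserves _
    (sheafToPresheaf (Opens.grothendieckTopology X) AddCommGrpCat.{u})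

theorem isZero_HZshLC_of_flasque {X : TopCat.{u}} {W V : Opens X} (hW : W ≤ V) (F : CohTop.Ab X)
    [TopCat.Sheaf.IsFlasque F] (k : ℕ) : IsZero ((SuppFam.HZshLC hW (k + 1)).obj F) := by
  obtain ⟨e⟩ := HZshLC25.nonempty_HZshLC_iso hW F (k + 1)
  refine IsZero.of_iso (Functor.map_isZero _ (Functor.isZero _ fun A => ?_)) e
  have := LocZ.subsingleton_HZ_of_flasque F (inf_le_inf_right A.unop hW) k
  exact @AddCommGrpCat.isZero_of_subsingleton _ this

theorem exists_isQuasicoherent_iso [QuasiCompact V₁.ι] [QuasiCompact V₂.ι] (F : Y.Modules)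
    [F.IsQuasicoherent] (i : ℕ) (hle : V₂ ≤ V₁) :
    ∃ M : Y.Modules, M.IsQuasicoherent ∧
      Nonempty (Coh.toAb M ≅ (SuppFam.HZshLC (X := Y.carrier) hle i).obj (Coh.toAb F)) := by
  let G := SuppFam.sectSuppLC (X := Y.carrier) hle
  have : (lcFun V₂ V₁).Additive := inferInstance
  let K := (injectiveResolution F).cocomplex
  let eK : ((lcFun V₂ V₁).mapHomologicalComplex _).obj K ≅
      mapCx (DCoh.gammaZ V₂.ι) (mapCx (P V₁.ι) K) :=
    HomologicalComplex.Hom.isoOfComponents (fun n => Iso.refl _)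
      (fun a b _ => (Category.id_comp _).trans (Category.comp_id _).symm)
  have hq : ((lcFun V₂ V₁).rightDerived i).obj F |>.IsQuasicoherent :=
    @QCoh.isQuasicoherent_of_iso _ _ _ ((injectiveResolution F).isoRightDerivedObj (lcFun V₂ V₁) i ≪≫
      (HomologicalComplex.homologyFunctor _ _ i).mapIso eK).symm
      (isQuasicoherent_homology_lc (injectiveResolution F) i hle)
  refine ⟨_, hq, ?_⟩
  have : PreservesFiniteLimits G := sectSuppLC_preservesFiniteLimits hle
  have : (QCoh.toAbFun Y).PreservesHomology := Functor.preservesHomologyOfExact _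
  obtain ⟨e⟩ := RDerLES.nonempty_rightDerived_comp_iso (QCoh.toAbFun Y) G
    (fun J hJ k => by
      have := Cohom.isFlasque_toAb_of_injective J
      exact isZero_HZshLC_of_flasque hle _ k) i F
  exact ⟨(SheafCoh.rightDerivedPostExactIso (QCoh.toAbFun Y ⋙ G) (lcFun V₂ V₁) (QCoh.toAbFun Y)
    (lcIso hle).symm F i).symm ≪≫ e⟩

end GrothLib.LocQCoh25
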