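import Groth.Agent.Lib.Cohom.RpushModules
import Groth.Agent.Lib.QCoh.Extension
import Groth.Agent.Lib.OX.RgammaZ
import Groth.Prelude.Def_LocCohZ

/-! # Quasi-coherence of the homology of a complex of sections with supports -/

set_option autoImplicit false
set_option backward.isDefEq.respectTransparency false
universe u

open CategoryTheory CategoryTheory.Limits AlgebraicGeometry

namespace GrothLib.LocQCoh25

variable {U Y : Scheme.{u}}

/-- The middle term of an exact five term sequence of quasi-coherent neighbours is quasi-coherent. -/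
theorem isQuasicoherent_mid {A B C D E : Y.Modules} [A.IsQuasicoherent] [B.IsQuasicoherent]
    [D.IsQuasicoherent] [E.IsQuasicoherent] (f : A ⟶ B) (g : B ⟶ C) (h : C ⟶ D) (k : D ⟶ E)
    (w₁ : f ≫ g = 0) (w₂ : g ≫ h = 0) (w₃ : h ≫ k = 0)
    (e₁ : (ShortComplex.mk f g w₁).Exact) (e₂ : (ShortComplex.mk g h w₂).Exact)
    (e₃ : (ShortComplex.mk h k w₃).Exact) : C.IsQuasicoherent := by
  have := QCoh.isQuasicoherent_cokernel f
  have := QCoh.isQuasicoherent_kernel k
  let d : cokernel f ⟶ C := cokernel.desc f g w₁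
  let l : C ⟶ kernel k := kernel.lift k h w₃
  have wd : d ≫ h = 0 := by
    apply (cancel_epi (cokernel.π f)).1
    rw [cokernel.π_desc_assoc, w₂, comp_zero]
  have wdl : d ≫ l = 0 := by
    apply (cancel_mono (kernel.ι k)).1
    rw [Category.assoc, kernel.lift_ι, wd, zero_comp]
  let φ : ShortComplex.mk g h w₂ ⟶ ShortComplex.mk d h wd :=
    ShortComplex.homMk (cokernel.π f) (𝟙 C) (𝟙 D) (by simp [d]) (by simp)
  have : Epi φ.τ₁ := inferInstanceAs (Epi (cokernel.π f))
  have : IsIso φ.τ₂ := inferInstanceAs (IsIso (𝟙 C))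
  have : Mono φ.τ₃ := inferInstanceAs (Mono (𝟙 D))
  have h1 : (ShortComplex.mk d h wd).Exact :=
    (ShortComplex.exact_iff_of_epi_of_isIso_of_mono φ).1 e₂
  let ψ : ShortComplex.mk d l wdl ⟶ ShortComplex.mk d h wd :=
    ShortComplex.homMk (𝟙 _) (𝟙 C) (kernel.ι k) (by simp) (by simp [l])
  have : Epi ψ.τ₁ := inferInstanceAs (Epi (𝟙 (cokernel f)))
  have : IsIso ψ.τ₂ := inferInstanceAs (IsIso (𝟙 C))
  have : Mono ψ.τ₃ := inferInstanceAs (Mono (kernel.ι k))
  have h2 : (ShortComplex.mk d l wdl).Exact :=
    (ShortComplex.exact_iff_of_epi_of_isIso_of_mono ψ).2 h1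
  have : Mono d := e₁.mono_cokernelDesc
  have : Epi l := e₃.epi_kernelLift
  have hS : (ShortComplex.mk d l wdl).ShortExact := ShortComplex.ShortExact.mk' h2 inferInstance inferInstance
  have : (ShortComplex.mk d l wdl).X₁.IsQuasicoherent := ‹(cokernel f).IsQuasicoherent›
  have : (ShortComplex.mk d l wdl).X₃.IsQuasicoherent := ‹(kernel k).IsQuasicoherent›
  exact QCoh.isQuasicoherent_X₂ hS

theorem isQuasicoherent_X₁_homology {S : ShortComplex (CochainComplex Y.Modules ℕ)} (hS : S.ShortExact)
    (h₂ : ∀ n, (S.X₂.homology n).IsQuasicoherent) (h₃ : ∀ n, (S.X₃.homology n).IsQuasicoherent)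
    (n : ℕ) : (S.X₁.homology n).IsQuasicoherent := by
  cases n with
  | zero =>
    have := hS.mono_f
    have hm : Mono (HomologicalComplex.homologyMap S.f 0) :=
      HomologicalComplex.mono_homologyMap_of_mono_of_not_rel S.f 0 (fun j h => by simp [ComplexShape.up_Rel] at h)
    have := h₂ 0
    have := h₃ 0
    have := QCoh.isQuasicoherent_kernel (HomologicalComplex.homologyMap S.g 0)
    let T := ShortComplex.mk (HomologicalComplex.homologyMap S.f 0) (HomologicalComplex.homologyMap S.g 0)
      (by rw [← HomologicalComplex.homologyMap_comp, S.zero, HomologicalComplex.homologyMap_zero])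
    have hT : T.Exact := hS.homology_exact₂ 0
    have : Mono T.f := ‹Mono (HomologicalComplex.homologyMap S.f 0)›
    exact @QCoh.isQuasicoherent_of_iso _ (kernel T.g) _
      (IsLimit.conePointUniqueUpToIso hT.fIsKernel (kernelIsKernel T.g)).symm
      ‹(kernel (HomologicalComplex.homologyMap S.g 0)).IsQuasicoherent›
  | succ m =>
    have := h₂ m
    have := h₃ m
    have := h₂ (m + 1)
    have := h₃ (m + 1)
    exact isQuasicoherent_mid _ _ _ _ _ _ _ (hS.homology_exact₃ m (m + 1) rfl)
      (hS.homology_exact₁ m (m + 1) rfl) (hS.homology_exact₂ (m + 1))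

variable (j : U ⟶ Y) [IsOpenImmersion j]

/-- `M ↦ j_*(M|_U)`. -/
noncomputable abbrev P : Y.Modules ⥤ Y.Modules :=
  Scheme.Modules.restrictFunctor j ⋙ Scheme.Modules.pushforward j

/-- `Γ_Z M ⟶ M`. -/
noncomputable def gammaι : DCoh.gammaZ j ⟶ 𝟭 Y.Modules where
  app M := kernel.ι _
  naturality {M N} φ := kernel.lift_ι _ _ _

/-- Applying a functor termwise to a complex. -/
noncomputable abbrev mapCx {X' : Scheme.{u}} (F : Y.Modules ⥤ X'.Modules) [F.PreservesZeroMorphisms]
    (K : CochainComplex Y.Modules ℕ) : CochainComplex X'.Modules ℕ :=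
  (F.mapHomologicalComplex _).obj K

/-- The sequence `0 ⟶ Γ_Z K ⟶ K ⟶ j_*(K|_U) ⟶ 0`. -/
noncomputable def suppSES (K : CochainComplex Y.Modules ℕ) :
    ShortComplex (CochainComplex Y.Modules ℕ) :=
  ShortComplex.mk (X₁ := mapCx (DCoh.gammaZ j) K) (X₂ := K) (X₃ := mapCx (P j) K)
    { f := fun n => (gammaι j).app (K.X n)
      comm' := fun a b _ => ((gammaι j).naturality (K.d a b)).symm }
    { f := fun n => (Scheme.Modules.restrictAdjunction j).unit.app (K.X n)
      comm' := fun a b _ => ((Scheme.Modules.restrictAdjunction j).unit.naturality (K.d a b)).symm }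
    (by
      ext n : 1
      exact kernel.condition _)

theorem suppSES_shortExact (K : CochainComplex Y.Modules ℕ) (hK : ∀ n, Injective (K.X n)) :
    (suppSES j K).ShortExact := by
  refine HomologicalComplex.shortExact_of_degreewise_shortExact _ fun n => ?_
  have := hK n
  exact ShortComplex.ShortExact.mk'
    (ShortComplex.exact_of_f_is_kernel (ShortComplex.mk _ _ (kernel.condition
      ((Scheme.Modules.restrictAdjunction j).unit.app (K.X n)))) (kernelIsKernel _))
    (inferInstanceAs (Mono (kernel.ι _))) (OX.epi_restrict_unit_of_injective j (K.X n))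

variable {M : Y.Modules}

/-- The homology of `j_*` of the restriction of an injective resolution is quasi-coherent. -/
theorem isQuasicoherent_homology_P [QuasiCompact j] [M.IsQuasicoherent] (IR : InjectiveResolution M) (n : ℕ) :
    ((mapCx (P j) IR.cocomplex).homology n).IsQuasicoherent := by
  have : (M.restrict j).IsQuasicoherent := inferInstance
  have h := Cocyc.isQuasicoherent_homology
    (Cohom.localises_pushCx j (Cohom.FlRes.restrict j (Cohom.FlRes.ofInjective IR)) n)
  exact h

theorem isQuasicoherent_homology_cocomplex [M.IsQuasicoherent] (IR : InjectiveResolution M) (n : ℕ) :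
    (IR.cocomplex.homology n).IsQuasicoherent :=
  have := Cohom.localises_pushCx (𝟙 Y) (Cohom.FlRes.ofInjective IR) n
  Cocyc.isQuasicoherent_homology this

/-- `R^q Γ_Z` of a quasi-coherent module is quasi-coherent for a quasi-compact open immersion. -/
theorem isQuasicoherent_homology_gammaZ [QuasiCompact j] [M.IsQuasicoherent] (IR : InjectiveResolution M)
    (n : ℕ) : ((mapCx (DCoh.gammaZ j) IR.cocomplex).homology n).IsQuasicoherent :=
  isQuasicoherent_X₁_homology (suppSES_shortExact j IR.cocomplex IR.injective)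
    (isQuasicoherent_homology_cocomplex IR) (isQuasicoherent_homology_P j IR) n

end GrothLib.LocQCoh25
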